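import Mathlib
import Cfsg.Agent.ClassesPi.Basic

/-!
π-elements in a coset of a subgroup: `k_π(G) ≤ k_π(N) k_π(G/N)`.

For a subgroup `N` normalised by `g`, the number of commuting pairs `(n, x)` with `x` a π-element
of the coset `g N` equals the number of commuting pairs of `N` whose first member is a π-element
with `g`-invariant class.
-/

set_option autoImplicit false

namespace CfsgLib.ClassesPi

open Finset

variable {G : Type*} [Group G]

/-- Exponents extracting the π-part and the π'-part. -/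
theorem exists_exponents (π : Set ℕ) (n : ℕ) (hn : n ≠ 0) :
    ∃ e f : ℕ, ∀ (H : Type*) (_ : Group H) (x : H), orderOf x ∣ n →
      x ^ e * x ^ f = x ∧ (x ^ e) ^ f = 1 ∧ (IsPiElt π x ↔ x ^ f = 1) := by
  classical
  set s := n.primeFactors with hs
  set n1 := ∏ p ∈ s with p ∈ π, p ^ n.factorization p with hn1
  set n2 := ∏ p ∈ s with p ∉ π, p ^ n.factorization p with hn2
  have hn12 : n1 * n2 = n := by
    rw [hn1, hn2, Finset.prod_filter_mul_prod_filter_not, hs]
    exact (Nat.prod_primeFactors_pow_factorization hn).symm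
  have hp1 : ∀ r, r.Prime → r ∣ n1 → r ∈ π := by
    intro r hr hd
    obtain ⟨p, hp, hrp⟩ := (Prime.dvd_finset_prod_iff hr.prime _).mp hd
    rw [Finset.mem_filter] at hp
    rw [(Nat.prime_dvd_prime_iff_eq hr (Nat.prime_of_mem_primeFactors hp.1)).mp
      (hr.dvd_of_dvd_pow hrp)]
    exact hp.2
  have hp2 : ∀ r, r.Prime → r ∣ n2 → r ∉ π := by
    intro r hr hd
    obtain ⟨p, hp, hrp⟩ := (Prime.dvd_finset_prod_iff hr.prime _).mp hd
    rw [Finset.mem_filter] at hp
    rw [(Nat.prime_dvd_prime_iff_eq hr (Nat.prime_of_mem_primeFactors hp.1)).mp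
      (hr.dvd_of_dvd_pow hrp)]
    exact hp.2
  have hcop : Nat.Coprime n1 n2 :=
    Nat.coprime_of_dvd fun r hr h1 h2 => hp2 r hr h2 (hp1 r hr h1)
  obtain ⟨e, he1, he2⟩ := Nat.chineseRemainder hcop 1 0
  obtain ⟨f, hf1, hf2⟩ := Nat.chineseRemainder hcop 0 1
  refine ⟨e, f, fun H _ x hx => ⟨?_, ?_, ?_⟩⟩
  · have h : e + f ≡ 1 [MOD n] := hn12 ▸ (Nat.modEq_and_modEq_iff_modEq_mul hcop).mp
      ⟨by simpa using he1.add hf1, by simpa using he2.add hf2⟩
    rw [← pow_add]
    nth_rewrite 2 [← pow_one x]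
    exact pow_eq_pow_iff_modEq.mpr (h.of_dvd hx)
  · rw [← pow_mul]
    refine orderOf_dvd_iff_pow_eq_one.mp (hx.trans ?_)
    rw [← hn12, mul_comm n1]
    exact mul_dvd_mul (Nat.modEq_zero_iff_dvd.mp he2) (Nat.modEq_zero_iff_dvd.mp hf1)
  · constructor
    · intro h
      refine orderOf_dvd_iff_pow_eq_one.mp (dvd_trans ?_ (Nat.modEq_zero_iff_dvd.mp hf1))
      have hc : Nat.Coprime (orderOf x) n2 :=
        Nat.coprime_of_dvd fun r hr h1 h2 => hp2 r hr h2 (h r hr h1)
      exact hc.dvd_of_dvd_mul_right (hn12 ▸ hx)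
    · intro h r hr hd
      refine by_contra fun hπ => ?_
      have hrn : r ∣ n1 * n2 := hn12 ▸ hd.trans hx
      rcases hr.dvd_mul.mp hrn with h1 | h2
      · exact hπ (hp1 r hr h1)
      · have hrf : r ∣ f := hd.trans (orderOf_dvd_of_pow_eq_one h)
        have h01 : 0 ≡ 1 [MOD r] := (Nat.modEq_zero_iff_dvd.mpr hrf).symm.trans (hf2.of_dvd h2)
        have := Nat.modEq_iff_dvd' (Nat.zero_le 1) |>.mp h01
        exact hr.ne_one (Nat.dvd_one.mp (by simpa using this))

variable [Fintype G]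

open Classical in
/-- Commuting pairs `(n, x)` with `n ∈ N` and `x` a π-element of `g N`. -/
noncomputable def cosetPairs (π : Set ℕ) (N : Subgroup G) (g : G) : Finset (G × G) :=
  univ.filter fun q => q.1 ∈ N ∧ g⁻¹ * q.2 ∈ N ∧ IsPiElt π q.2 ∧ Commute q.1 q.2

open Classical in
/-- Commuting pairs `(n, m)` of `N` with `n` a π-element with `g`-invariant class. -/
noncomputable def invPairs (π : Set ℕ) (N : Subgroup G) (g : G) : Finset (G × G) :=
  univ.filter fun q => q.1 ∈ N ∧ q.2 ∈ N ∧ IsPiElt π q.1 ∧ Commute q.1 q.2 ∧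
    ∃ x, g⁻¹ * x ∈ N ∧ Commute q.1 x

theorem mem_cosetPairs {π : Set ℕ} {N : Subgroup G} {g : G} {q : G × G} :
    q ∈ cosetPairs π N g ↔ q.1 ∈ N ∧ g⁻¹ * q.2 ∈ N ∧ IsPiElt π q.2 ∧ Commute q.1 q.2 := by
  simp [cosetPairs]

theorem mem_invPairs {π : Set ℕ} {N : Subgroup G} {g : G} {q : G × G} :
    q ∈ invPairs π N g ↔ q.1 ∈ N ∧ q.2 ∈ N ∧ IsPiElt π q.1 ∧ Commute q.1 q.2 ∧
      ∃ x, g⁻¹ * x ∈ N ∧ Commute q.1 x := by
  simp [invPairs]

omit [Fintype G] in
theorem coset_pow_mem {N : Subgroup G} {g : G} (hg : g ∈ Subgroup.normalizer (N : Set G)) {x : G}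
    (hx : g⁻¹ * x ∈ N) (k : ℕ) : (g ^ k)⁻¹ * x ^ k ∈ N := by
  induction k with
  | zero => simp
  | succ k ih =>
    have h1 : g⁻¹ * ((g ^ k)⁻¹ * x ^ k) * g ∈ N := by
      have := (Subgroup.mem_normalizer_iff.mp (Subgroup.inv_mem _ hg) ((g ^ k)⁻¹ * x ^ k)).mp ih
      simpa using this
    have : (g ^ (k + 1))⁻¹ * x ^ (k + 1) = g⁻¹ * ((g ^ k)⁻¹ * x ^ k) * g * (g⁻¹ * x) := by
      simp [pow_succ, mul_assoc]
    rw [this]
    exact N.mul_mem h1 hx

/-- The key equality. -/
theorem card_cosetPairs (π : Set ℕ) {e f : ℕ}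
    (hef : ∀ x : G, x ^ e * x ^ f = x ∧ (x ^ e) ^ f = 1 ∧ (IsPiElt π x ↔ x ^ f = 1)) :
    ∀ (k : ℕ) (N : Subgroup G), Nat.card N = k → ∀ g ∈ Subgroup.normalizer (N : Set G),
      g ^ f ∈ N → (cosetPairs π N g).card = (invPairs π N g).card := by
  classical
  intro k
  induction k using Nat.strong_induction_on with
  | _ k ih =>
  intro N hk g hg hgf
  have hsplit : ∀ x : G, x ^ e * x ^ f = x := fun x => (hef x).1
  have hpi : ∀ x : G, IsPiElt π x ↔ x ^ f = 1 := fun x => (hef x).2.2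
  have hef1 : ∀ x : G, (x ^ e) ^ f = 1 := fun x => (hef x).2.1
  have hfix : ∀ x : G, (x ^ f) ^ f = x ^ f ∧ (x ^ f) ^ e = 1 := by
    intro x
    have h1 : (x ^ f) ^ e = 1 := by rw [← pow_mul, mul_comm, pow_mul, hef1]
    exact ⟨by simpa [h1] using hsplit (x ^ f), h1⟩
  have hxf : ∀ x, g⁻¹ * x ∈ N → x ^ f ∈ N := fun x hx => by
    simpa [mul_inv_cancel_left] using N.mul_mem hgf (coset_pow_mem hg hx f)
  have hxe : ∀ x, g⁻¹ * x ∈ N → g⁻¹ * x ^ e ∈ N := fun x hx => by
    rw [show x ^ e = x * (x ^ f)⁻¹ from eq_mul_inv_of_mul_eq (hsplit x), ← mul_assoc]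
    exact N.mul_mem hx (N.inv_mem (hxf x hx))
  -- all pairs
  let P1 : Finset (G × G) := univ.filter fun q => q.1 ∈ N ∧ g⁻¹ * q.2 ∈ N ∧ Commute q.1 q.2
  let P2 : Finset (G × G) := univ.filter fun q =>
    q.1 ∈ N ∧ q.2 ∈ N ∧ Commute q.1 q.2 ∧ ∃ x, g⁻¹ * x ∈ N ∧ Commute q.1 x
  have htot : P1.card = P2.card := by
    rw [Finset.card_eq_sum_card_fiberwise (f := Prod.fst) (t := (univ : Finset G))
      (fun q _ => Finset.mem_univ _), Finset.card_eq_sum_card_fiberwise (f := Prod.fst)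
      (t := (univ : Finset G)) (fun q _ => Finset.mem_univ _) (s := P2)]
    refine Finset.sum_congr rfl fun n _ => ?_
    by_cases hx : n ∈ N ∧ ∃ x, g⁻¹ * x ∈ N ∧ Commute n x
    · obtain ⟨hn, x0, hx0, hc0⟩ := hx
      refine Finset.card_nbij' (fun q => (q.1, x0⁻¹ * q.2)) (fun q => (q.1, x0 * q.2)) ?_ ?_ ?_ ?_
      · intro q hq
        simp only [P1, P2, Finset.coe_filter, Set.mem_ofPred_eq, Finset.mem_filter, Finset.mem_univ,
          true_and] at hq ⊢
        obtain ⟨⟨hq1, hq2, hq3⟩, rfl⟩ := hq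
        refine ⟨⟨hq1, ?_, hc0.inv_right.mul_right hq3, x0, hx0, hc0⟩, rfl⟩
        have := N.mul_mem (N.inv_mem hx0) hq2
        simpa [mul_assoc] using this
      · intro q hq
        simp only [P1, P2, Finset.coe_filter, Set.mem_ofPred_eq, Finset.mem_filter, Finset.mem_univ,
          true_and] at hq ⊢
        obtain ⟨⟨hq1, hq2, hq3, -⟩, rfl⟩ := hq
        exact ⟨⟨hq1, by rw [← mul_assoc]; exact N.mul_mem hx0 hq2, hc0.mul_right hq3⟩, rfl⟩
      · intro q _; simp
      · intro q _; simp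
    · rw [Finset.card_eq_zero.mpr, Finset.card_eq_zero.mpr] <;>
      · refine Finset.filter_eq_empty_iff.mpr fun q hq hqn => hx ?_
        simp only [P1, P2, Finset.mem_filter, Finset.mem_univ, true_and] at hq
        subst hqn
        first
          | exact ⟨hq.1, q.2, hq.2.1, hq.2.2⟩
          | exact ⟨hq.1, hq.2.2.2⟩
  -- fibres over the π'-part
  let A : G → Finset (G × G) := fun s => univ.filter fun q => q.1 ∈ N ∧ g⁻¹ * q.2 ∈ N ∧
    IsPiElt π q.2 ∧ Commute q.1 q.2 ∧ Commute q.1 s ∧ Commute q.2 s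
  let B : G → Finset (G × G) := fun s => univ.filter fun q => q.1 ∈ N ∧ q.2 ∈ N ∧
    IsPiElt π q.1 ∧ Commute q.1 q.2 ∧ Commute q.1 s ∧ Commute q.2 s ∧
      ∃ x, g⁻¹ * x ∈ N ∧ Commute q.1 x ∧ Commute s x
  let S : Finset G := univ.filter fun s => s ∈ N ∧ s ^ f = s ∧ s ^ e = 1
  have h1 : P1.card = ∑ s ∈ S, (A s).card := by
    rw [Finset.card_eq_sum_card_fiberwise (f := fun q : G × G => q.2 ^ f) (t := S)]
    swap
    · intro q hq
      simp only [P1, S, Finset.coe_filter, Set.mem_ofPred_eq, Finset.mem_univ, true_and] at hq ⊢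
      exact ⟨hxf _ hq.2.1, hfix _⟩
    refine Finset.sum_congr rfl fun s hs => ?_
    simp only [S, Finset.mem_filter, Finset.mem_univ, true_and] at hs
    refine Finset.card_nbij' (fun q => (q.1, q.2 ^ e)) (fun q => (q.1, q.2 * s)) ?_ ?_ ?_ ?_
    · intro q hq
      simp only [P1, A, Finset.coe_filter, Set.mem_ofPred_eq, Finset.mem_filter, Finset.mem_univ,
        true_and] at hq ⊢
      obtain ⟨⟨hq1, hq2, hq3⟩, rfl⟩ := hq
      exact ⟨hq1, hxe _ hq2, (hpi _).mpr (hef1 _), hq3.pow_right e, hq3.pow_right f,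
        (Commute.refl q.2).pow_pow e f⟩
    · intro q hq
      simp only [P1, A, Finset.coe_filter, Set.mem_ofPred_eq, Finset.mem_filter, Finset.mem_univ,
        true_and] at hq ⊢
      obtain ⟨hq1, hq2, hq3, hq4, hq5, hq6⟩ := hq
      refine ⟨⟨hq1, by rw [← mul_assoc]; exact N.mul_mem hq2 hs.1, hq4.mul_right hq5⟩, ?_⟩
      rw [hq6.mul_pow, (hpi _).mp hq3, hs.2.1, one_mul]
    · intro q hq
      simp only [Finset.coe_filter, Set.mem_ofPred_eq] at hq
      exact Prod.ext rfl (by rw [← hq.2]; exact hsplit q.2)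
    · intro q hq
      simp only [A, Finset.coe_filter, Set.mem_ofPred_eq, Finset.mem_univ, true_and] at hq
      obtain ⟨-, -, hq3, -, -, hq6⟩ := hq
      have := hsplit q.2
      rw [(hpi _).mp hq3, mul_one] at this
      exact Prod.ext rfl (show (q.2 * s) ^ e = q.2 by rw [hq6.mul_pow, this, hs.2.2, mul_one])
  have h2 : P2.card = ∑ s ∈ S, (B s).card := by
    rw [Finset.card_eq_sum_card_fiberwise (f := fun q : G × G => q.1 ^ f) (t := S)]
    swap
    · intro q hq
      simp only [P2, S, Finset.coe_filter, Set.mem_ofPred_eq, Finset.mem_univ, true_and] at hq ⊢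
      exact ⟨N.pow_mem hq.1 f, hfix _⟩
    refine Finset.sum_congr rfl fun s hs => ?_
    simp only [S, Finset.mem_filter, Finset.mem_univ, true_and] at hs
    refine Finset.card_nbij' (fun q => (q.1 ^ e, q.2)) (fun q => (q.1 * s, q.2)) ?_ ?_ ?_ ?_
    · intro q hq
      simp only [P2, B, Finset.coe_filter, Set.mem_ofPred_eq, Finset.mem_filter, Finset.mem_univ,
        true_and] at hq ⊢
      obtain ⟨⟨hq1, hq2, hq3, x, hx, hxc⟩, rfl⟩ := hq
      exact ⟨N.pow_mem hq1 e, hq2, (hpi _).mpr (hef1 _), hq3.pow_left e,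
        (Commute.refl q.1).pow_pow e f, (hq3.pow_left f).symm, x, hx, hxc.pow_left e,
        hxc.pow_left f⟩
    · intro q hq
      simp only [P2, B, Finset.coe_filter, Set.mem_ofPred_eq, Finset.mem_filter, Finset.mem_univ,
        true_and] at hq ⊢
      obtain ⟨hq1, hq2, hq3, hq4, hq5, hq6, x, hx, hxc, hsx⟩ := hq
      refine ⟨⟨N.mul_mem hq1 hs.1, hq2, hq4.mul_left hq6.symm, x, hx, hxc.mul_left hsx⟩, ?_⟩
      rw [hq5.mul_pow, (hpi _).mp hq3, hs.2.1, one_mul]
    · intro q hq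
      simp only [Finset.coe_filter, Set.mem_ofPred_eq] at hq
      exact Prod.ext (by rw [← hq.2]; exact hsplit q.1) rfl
    · intro q hq
      simp only [B, Finset.coe_filter, Set.mem_ofPred_eq, Finset.mem_univ, true_and] at hq
      obtain ⟨-, -, hq3, -, hq5, -⟩ := hq
      have := hsplit q.1
      rw [(hpi _).mp hq3, mul_one] at this
      exact Prod.ext (show (q.1 * s) ^ e = q.1 by rw [hq5.mul_pow, this, hs.2.2, mul_one]) rfl
  -- the fibres of the smaller subgroups agree; the others are copies of the one over `1`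
  let top : G → Prop := fun s => (∀ n ∈ N, Commute n s) ∧ Commute g s
  have hAtop : ∀ s ∈ S, top s → (A s).card = (cosetPairs π N g).card ∧
      (B s).card = (invPairs π N g).card := by
    intro s hs ⟨hsN, hsg⟩
    have hx : ∀ x, g⁻¹ * x ∈ N → Commute x s := fun x hx => by
      simpa using hsg.mul_left (hsN _ hx)
    constructor <;> congr 1 <;> ext q
    · rw [mem_cosetPairs]
      simp only [A, Finset.mem_filter, Finset.mem_univ, true_and]
      exact ⟨fun h => ⟨h.1, h.2.1, h.2.2.1, h.2.2.2.1⟩,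
        fun h => ⟨h.1, h.2.1, h.2.2.1, h.2.2.2, hsN _ h.1, hx _ h.2.1⟩⟩
    · rw [mem_invPairs]
      simp only [B, Finset.mem_filter, Finset.mem_univ, true_and]
      exact ⟨fun ⟨a, b, c, d, _, _, x, hx', hxc, _⟩ => ⟨a, b, c, d, x, hx', hxc⟩,
        fun ⟨a, b, c, d, x, hx', hxc⟩ =>
          ⟨a, b, c, d, hsN _ a, hsN _ b, x, hx', hxc, (hx x hx').symm⟩⟩
  have hrest : ∀ s ∈ S, ¬ top s → (A s).card = (B s).card := by
    intro s hs hns
    by_cases hex : ∃ x, g⁻¹ * x ∈ N ∧ Commute x s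
    swap
    · rw [Finset.card_eq_zero.mpr, Finset.card_eq_zero.mpr] <;>
      · refine Finset.filter_eq_empty_iff.mpr fun q _ hq => hex ?_
        first
          | exact ⟨q.2, hq.2.1, hq.2.2.2.2.2⟩
          | (obtain ⟨x, hx, -, hsx⟩ := hq.2.2.2.2.2.2; exact ⟨x, hx, hsx.symm⟩)
    obtain ⟨g', hg', hg's⟩ := hex
    set C := N ⊓ Subgroup.centralizer ({s} : Set G) with hC
    have hmemC : ∀ n, n ∈ C ↔ n ∈ N ∧ Commute n s := fun n => by
      rw [hC, Subgroup.mem_inf, Subgroup.mem_centralizer_singleton_iff]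
      rfl
    have hlt : Nat.card C < k := by
      rw [← hk]
      refine lt_of_le_of_ne (Nat.card_mono (Set.toFinite _) (inf_le_left : C ≤ N)) fun e' => hns ?_
      have hCN : C = N := Subgroup.eq_of_le_of_card_ge inf_le_left e'.ge
      refine ⟨fun n hn => ((hmemC n).mp (hCN.symm ▸ hn)).2, ?_⟩
      have : Commute (g⁻¹ * g') s := ((hmemC _).mp (hCN.symm ▸ hg')).2
      have h3 := hg's.mul_left this.inv_left
      simpa [mul_assoc] using h3
    have hgN : g' ∈ Subgroup.normalizer (N : Set G) := by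
      have := (Subgroup.normalizer (N : Set G)).mul_mem hg (Subgroup.le_normalizer hg')
      simpa using this
    have hg'C : g' ∈ Subgroup.normalizer (C : Set G) := by
      rw [Subgroup.mem_normalizer_iff]
      intro n
      simp only [hmemC]
      refine ⟨fun ⟨a, b⟩ => ⟨(Subgroup.mem_normalizer_iff.mp hgN n).mp a,
        (hg's.mul_left b).mul_left hg's.inv_left⟩,
        fun ⟨a, b⟩ => ⟨(Subgroup.mem_normalizer_iff.mp hgN n).mpr a, ?_⟩⟩
      have h3 := (hg's.inv_left.mul_left b).mul_left hg's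
      simpa [mul_assoc] using h3
    have hcoset : ∀ x, (g'⁻¹ * x ∈ C ↔ g⁻¹ * x ∈ N ∧ Commute x s) := by
      intro x
      rw [hmemC]
      constructor
      · rintro ⟨a, b⟩
        refine ⟨?_, by simpa using hg's.mul_left b⟩
        have := N.mul_mem hg' a
        simpa [mul_assoc] using this
      · rintro ⟨a, b⟩
        refine ⟨?_, hg's.inv_left.mul_left b⟩
        have := N.mul_mem (N.inv_mem hg') a
        simpa [mul_assoc] using this
    have hfC : g' ^ f ∈ C := (hmemC _).mpr ⟨hxf g' hg', hg's.pow_left f⟩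
    have key := ih _ hlt C rfl g' hg'C hfC
    convert key using 2
    · ext q
      rw [mem_cosetPairs]
      simp only [A, Finset.mem_filter, Finset.mem_univ, true_and, hcoset, hmemC]
      tauto
    · ext q
      rw [mem_invPairs]
      simp only [B, Finset.mem_filter, Finset.mem_univ, true_and, hcoset, hmemC]
      constructor
      · rintro ⟨a, b, c, d, h5, h6, x, hx, hxc, hsx⟩
        exact ⟨⟨a, h5⟩, ⟨b, h6⟩, c, d, x, ⟨hx, hsx.symm⟩, hxc⟩
      · rintro ⟨⟨a, h5⟩, ⟨b, h6⟩, c, d, x, ⟨hx, hsx⟩, hxc⟩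
        exact ⟨a, b, c, d, h5, h6, x, hx, hxc, hsx.symm⟩
  rw [h1, h2, ← Finset.sum_filter_add_sum_filter_not S top,
    ← Finset.sum_filter_add_sum_filter_not S top (fun s => (B s).card),
    Finset.sum_congr rfl (g := fun s => (B s).card) (fun s hs => by
      rw [Finset.mem_filter] at hs; exact hrest s hs.1 hs.2 :
      ∀ s ∈ S.filter (fun s => ¬ top s), (A s).card = (B s).card)] at htot
  have htot' := Nat.add_right_cancel htot
  have hA1 : ∀ s ∈ S.filter top, (A s).card = (cosetPairs π N g).card := fun s hs => by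
    rw [Finset.mem_filter] at hs; exact (hAtop s hs.1 hs.2).1
  have hB1 : ∀ s ∈ S.filter top, (B s).card = (invPairs π N g).card := fun s hs => by
    rw [Finset.mem_filter] at hs; exact (hAtop s hs.1 hs.2).2
  rw [Finset.sum_congr rfl hA1, Finset.sum_congr rfl hB1, Finset.sum_const, Finset.sum_const,
    smul_eq_mul, smul_eq_mul] at htot'
  refine Nat.eq_of_mul_eq_mul_left (Finset.card_pos.mpr ⟨1, ?_⟩) htot'
  simp [S, top, Commute.one_right]

open Classical in
/-- Commuting pairs with a π-element first. -/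
noncomputable def piPairs (π : Set ℕ) (G : Type*) [Group G] [Fintype G] : Finset (G × G) :=
  univ.filter fun q => IsPiElt π q.1 ∧ Commute q.1 q.2

theorem mem_piPairs {π : Set ℕ} {q : G × G} :
    q ∈ piPairs π G ↔ IsPiElt π q.1 ∧ Commute q.1 q.2 := by simp [piPairs]

theorem card_piPairs (π : Set ℕ) : (piPairs π G).card = kPi π G * Fintype.card G := by
  classical
  let T : Finset (ConjClasses G) :=
    univ.filter fun c => ∃ x, ConjClasses.mk x = c ∧ IsPiElt π x
  rw [Finset.card_eq_sum_card_fiberwise (f := fun q : G × G => ConjClasses.mk q.1) (t := T)]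
  swap
  · intro q hq
    simp only [Finset.mem_coe, mem_piPairs] at hq
    simp only [T, Finset.coe_filter, Set.mem_ofPred_eq, Finset.mem_univ, true_and]
    exact ⟨q.1, rfl, hq.1⟩
  rw [Finset.sum_congr rfl (g := fun _ => Fintype.card G), Finset.sum_const, smul_eq_mul]
  · rw [kPi, Nat.card_eq_fintype_card, Fintype.card_subtype]
  intro c hc
  simp only [T, Finset.mem_filter, Finset.mem_univ, true_and] at hc
  obtain ⟨a, rfl, ha⟩ := hc
  rw [← Finset.card_univ, Finset.card_eq_sum_card_fiberwise (f := fun y : G => y * a * y⁻¹)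
    (s := univ) (t := univ.filter fun x => ConjClasses.mk x = ConjClasses.mk a) (fun y _ => by
      simp only [Finset.coe_filter, Set.mem_ofPred_eq, Finset.mem_univ, true_and,
        ConjClasses.mk_eq_mk_iff_isConj]
      exact (isConj_iff.mpr ⟨y, rfl⟩ : IsConj a (y * a * y⁻¹)).symm),
    Finset.card_eq_sum_card_fiberwise (f := Prod.fst)
      (t := univ.filter fun x => ConjClasses.mk x = ConjClasses.mk a) (fun q hq => by
        simp only [Finset.coe_filter, Set.mem_ofPred_eq, Finset.mem_univ, true_and] at hq ⊢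
        exact hq.2)]
  refine Finset.sum_congr rfl fun x hx => ?_
  simp only [Finset.mem_filter, Finset.mem_univ, true_and] at hx
  obtain ⟨y0, hy0⟩ := isConj_iff.mp (ConjClasses.mk_eq_mk_iff_isConj.mp hx.symm)
  refine Finset.card_nbij' (fun q => q.2 * y0) (fun y => (x, y * y0⁻¹)) ?_ ?_ ?_ ?_
  · intro q hq
    simp only [Finset.coe_filter, Set.mem_ofPred_eq, Finset.mem_filter, mem_piPairs,
      Finset.mem_univ, true_and] at hq ⊢
    obtain ⟨⟨⟨-, hc⟩, -⟩, rfl⟩ := hq
    calc q.2 * y0 * a * (q.2 * y0)⁻¹ = q.2 * (y0 * a * y0⁻¹) * q.2⁻¹ := by group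
      _ = q.1 := by rw [hy0, ← hc.eq, mul_inv_cancel_right]
  · intro y hy
    simp only [Finset.coe_filter, Set.mem_ofPred_eq, Finset.mem_filter, mem_piPairs,
      Finset.mem_univ, true_and] at hy ⊢
    refine ⟨⟨⟨isPiElt_conj (ConjClasses.mk_eq_mk_iff_isConj.mp hx.symm) ha, ?_⟩, hx⟩, trivial⟩
    show x * (y * y0⁻¹) = (y * y0⁻¹) * x
    conv_lhs => rw [← hy]
    rw [← hy0]
    group
  · intro q hq
    simp only [Finset.coe_filter, Set.mem_ofPred_eq] at hq
    exact Prod.ext hq.2.symm (mul_inv_cancel_right _ _)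
  · intro y _
    exact inv_mul_cancel_right _ _

theorem kPi_le_kPi_mul_kPi (π : Set ℕ) (N : Subgroup G) [N.Normal] :
    kPi π G ≤ kPi π N * kPi π (G ⧸ N) := by
  classical
  haveI := Fintype.ofFinite N
  haveI := Fintype.ofFinite (G ⧸ N)
  obtain ⟨e, f, hef⟩ := exists_exponents π (Fintype.card G) Fintype.card_ne_zero
  have hefG : ∀ x : G, x ^ e * x ^ f = x ∧ (x ^ e) ^ f = 1 ∧ (IsPiElt π x ↔ x ^ f = 1) :=
    fun x => hef G _ x orderOf_dvd_card
  have hbound : ∀ x₀ : G, IsPiElt π (x₀ : G ⧸ N) →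
      (cosetPairs π N x₀).card ≤ kPi π N * Fintype.card N := by
    intro x₀ hx₀
    have hn : Subgroup.normalizer (N : Set G) = ⊤ := Subgroup.normalizer_eq_top N
    rw [card_cosetPairs π hefG _ N rfl x₀ (by rw [hn]; trivial) ?_]
    · rw [← card_piPairs (G := N)]
      refine le_trans (le_of_eq ?_) (Finset.card_le_card (s := (invPairs π N x₀).subtype
        (fun q => q.1 ∈ N ∧ q.2 ∈ N) |>.image fun q => ((⟨q.1.1, q.2.1⟩, ⟨q.1.2, q.2.2⟩) : N × N))
        ?_)
      · rw [Finset.card_image_of_injective _ (fun a b h => Subtype.ext (Prod.ext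
          (congrArg (fun z => ((z : N × N).1 : G)) h) (congrArg (fun z => ((z : N × N).2 : G)) h))),
          Finset.card_subtype, Finset.filter_true_of_mem]
        exact fun q hq => ⟨(mem_invPairs.mp hq).1, (mem_invPairs.mp hq).2.1⟩
      · intro z hz
        obtain ⟨q, hq, rfl⟩ := Finset.mem_image.mp hz
        rw [Finset.mem_subtype, mem_invPairs] at hq
        rw [mem_piPairs]
        refine ⟨?_, Subtype.ext hq.2.2.2.1⟩
        intro r hr hd
        exact hq.2.2.1 r hr (by rwa [← Subgroup.orderOf_coe] at hd)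
    · have h := ((hef (G ⧸ N) _ (x₀ : G ⧸ N) ((orderOf_map_dvd (QuotientGroup.mk' N) x₀).trans
        orderOf_dvd_card)).2.2).mp hx₀
      rw [← QuotientGroup.mk_pow, QuotientGroup.eq_one_iff] at h
      exact h
  have hmain : (piPairs π G).card ≤ (piPairs π (G ⧸ N)).card * (kPi π N * Fintype.card N) := by
    rw [Finset.card_eq_sum_card_fiberwise
      (f := fun q : G × G => ((q.1 : G ⧸ N), (q.2 : G ⧸ N))) (t := piPairs π (G ⧸ N))]
    swap
    · intro q hq
      simp only [Finset.mem_coe, mem_piPairs] at hq ⊢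
      exact ⟨fun r hr hd => hq.1 r hr (hd.trans (orderOf_map_dvd (QuotientGroup.mk' N) q.1)),
        hq.2.map (QuotientGroup.mk' N)⟩
    refine (Finset.sum_le_card_nsmul _ _ (kPi π N * Fintype.card N) ?_).trans_eq (smul_eq_mul _ _)
    intro c hc
    obtain ⟨x₀, hx₀⟩ := QuotientGroup.mk_surjective c.1
    refine le_trans ?_ (hbound x₀ (hx₀ ▸ (mem_piPairs.mp hc).1))
    -- for each first member, the second ones lie in a coset of its centraliser in `N`
    let F := (piPairs π G).filter fun q => ((q.1 : G ⧸ N), (q.2 : G ⧸ N)) = c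
    show F.card ≤ _
    rw [Finset.card_eq_sum_card_fiberwise (f := Prod.fst) (s := F) (t := univ)
      (fun q _ => Finset.mem_univ _), Finset.card_eq_sum_card_fiberwise (f := Prod.snd)
      (s := cosetPairs π N x₀) (t := univ) (fun q _ => Finset.mem_univ _)]
    refine Finset.sum_le_sum fun x _ => ?_
    by_cases hx : ∃ q ∈ F, q.1 = x
    swap
    · rw [Finset.card_eq_zero.mpr (Finset.filter_eq_empty_iff.mpr fun q hq h => hx ⟨q, hq, h⟩)]
      exact Nat.zero_le _
    obtain ⟨⟨x1, y0⟩, hq0, hq01⟩ := hx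
    obtain rfl : x1 = x := hq01
    refine Finset.card_le_card_of_injOn (fun q => (y0⁻¹ * q.2, x1)) ?_ ?_
    · intro q hq
      simp only [F, Finset.coe_filter, Set.mem_ofPred_eq, Finset.mem_filter, mem_piPairs,
        mem_cosetPairs, Prod.ext_iff] at hq hq0 ⊢
      obtain ⟨⟨⟨hπ, hcom⟩, hc1, hc2⟩, hqx⟩ := hq
      obtain ⟨⟨hπ0, hcom0⟩, hc10, hc20⟩ := hq0
      rw [hqx] at hcom
      refine ⟨⟨QuotientGroup.eq.mp (hc20.trans hc2.symm), QuotientGroup.eq.mp (hx₀.trans hc10.symm),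
        hπ0, (hcom0.inv_right.mul_right hcom).symm⟩, trivial⟩
    · intro a ha b hb h
      simp only [Finset.coe_filter, Set.mem_ofPred_eq] at ha hb
      exact Prod.ext (ha.2.trans hb.2.symm) (mul_left_cancel (congrArg Prod.fst h))
  rw [card_piPairs, card_piPairs] at hmain
  have hG : Fintype.card G = Fintype.card (G ⧸ N) * Fintype.card N := by
    rw [← Nat.card_eq_fintype_card, ← Nat.card_eq_fintype_card, ← Nat.card_eq_fintype_card]
    exact N.card_eq_card_quotient_mul_card_subgroup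
  refine Nat.le_of_mul_le_mul_right ?_ (Fintype.card_pos (α := G))
  calc kPi π G * Fintype.card G
      ≤ kPi π (G ⧸ N) * Fintype.card (G ⧸ N) * (kPi π N * Fintype.card N) := hmain
    _ = kPi π N * kPi π (G ⧸ N) * Fintype.card G := by rw [hG]; ring

end CfsgLib.ClassesPi
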